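import Groth.Agent.FlatInjLib.AssFibre
import Groth.Agent.GeomRedFieldLib.Local
import Groth.Agent.DepthLib.SmoothCons
import Groth.Agent.Unram17Lib.SmoothNormal
import Mathlib

/-! # Integral closedness of flat algebras with geometrically reduced fibres over normal domains -/

set_option autoImplicit false
set_option backward.isDefEq.respectTransparency false
set_option backward.isDefEq.respectTransparency.types false
set_option linter.all false
set_option maxHeartbeats 800000
universe u

open Polynomial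
open scoped TensorProduct

namespace EtaModifLib

variable {R B : Type u} [CommRing R] [CommRing B] [Algebra R B]

/-- An associated prime of a reduced Noetherian ring is minimal. -/
theorem mem_minimalPrimes_of_mem_associatedPrimes {T : Type u} [CommRing T] [IsNoetherianRing T] [IsReduced T]
    {P : Ideal T} (hP : P ∈ associatedPrimes T T) : P ∈ minimalPrimes T := by
  obtain ⟨hPp, x, hx⟩ := isAssociatedPrime_iff.1 hP
  haveI := hPp
  have hx0 : x ≠ 0 := by
    rintro rfl
    refine hPp.ne_top (hx.trans ?_)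
    rw [Ideal.eq_top_iff_one, Submodule.mem_colon_singleton]
    simp
  obtain ⟨Q, hQ, hxQ⟩ : ∃ Q ∈ minimalPrimes T, x ∉ Q := by
    by_contra h
    push Not at h
    have h1 : x ∈ sInf ((⊥ : Ideal T).minimalPrimes) := Ideal.mem_sInf.2 fun {Q} hQ => h Q hQ
    rw [Ideal.sInf_minimalPrimes] at h1
    obtain ⟨n, hn⟩ := h1
    exact hx0 (IsReduced.eq_zero x ⟨n, hn⟩)
  have hPQ : P ≤ Q := fun c hc => by
    rw [hx, Submodule.mem_colon_singleton, Submodule.mem_bot, smul_eq_mul] at hc
    exact (hQ.1.1.mem_or_mem (hc ▸ Q.zero_mem)).resolve_right hxQ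
  rwa [le_antisymm hPQ (hQ.2 ⟨hPp, bot_le⟩ hPQ)]

/-- A point associated to its fibre is a smooth point, when the fibres are geometrically reduced. -/
theorem mem_smoothLocus_of_ass [Algebra.FinitePresentation R B] [Module.Flat R B]
    (p : Ideal R) [p.IsPrime] [Algebra.IsGeometricallyReduced p.ResidueField (p.Fiber B)]
    (P : Ideal (p.Fiber B)) [P.IsPrime] (hP : P ∈ associatedPrimes (p.Fiber B) (FlatCA.fiberMod p B B))
    (q : PrimeSpectrum B) (hq : P.comap (FibAssLib.incl B p) = q.asIdeal) :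
    q ∈ Algebra.smoothLocus R B := by
  letI : Algebra B (p.Fiber B) := Algebra.TensorProduct.rightAlgebra
  haveI : IsNoetherianRing (p.Fiber B) := Algebra.FiniteType.isNoetherianRing p.ResidueField _
  haveI : IsReduced (p.Fiber B) := Algebra.isReduced_of_isGeometricallyReduced p.ResidueField
  have hP' : P ∈ associatedPrimes (p.Fiber B) (p.Fiber B) := by
    rw [← LinearEquiv.AssociatedPrimes.eq
      (TensorProduct.AlgebraTensorModule.rid B (p.Fiber B) (p.Fiber B) : (p.Fiber B) ⊗[B] B ≃ₗ[p.Fiber B] p.Fiber B)]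
    exact hP
  have hsm : Algebra.IsSmoothAt p.ResidueField P :=
    GeomRedFieldLib.isSmoothAt_of_minimalPrime P (mem_minimalPrimes_of_mem_associatedPrimes hP')
      (GeomRedFieldLib.isGeometricallyReduced_localization P.primeCompl _)
  refine (DepthLib.mem_smoothLocus_iff_flat_fibSmooth R B q).2 ⟨?_, ?_⟩
  · exact (FlatLib.mem_flatLocus_self_iff q).mpr (Module.Flat.trans R B (Localization.AtPrime q.asIdeal))
  · exact (DepthLib.mem_fibSmooth_iff p.ResidueField ⟨P, ‹_›⟩ q hq).1 hsm

/-- A flat algebra of finite presentation with geometrically reduced fibres over a normal domain is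
integrally closed in its generic fibre. -/
theorem mem_span_of_monic [IsDomain R] [IsIntegrallyClosed R] [Algebra.FinitePresentation R B] [Module.Flat R B]
    (hred : ∀ (p : Ideal R) [p.IsPrime], Algebra.IsGeometricallyReduced p.ResidueField (p.Fiber B))
    (a : R) (ha : a ≠ 0) (b : B) (P : B[X]) (hP : P.Monic)
    (h : (P.scaleRoots (algebraMap R B a)).eval b = 0) : b ∈ Ideal.span {algebraMap R B a} := by
  classical
  let c := algebraMap R B a
  let J : Ideal B := (Ideal.span {c}).colon ({b} : Set B)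
  have hJ : ∀ s, s ∈ J ↔ s * b ∈ Ideal.span {c} := fun s => by
    rw [Submodule.mem_colon_singleton, smul_eq_mul]
  by_contra hb
  have hJtop : J ≠ ⊤ := fun htop => hb (by simpa using (hJ 1).1 (htop ▸ Submodule.mem_top))
  obtain ⟨M, hMmax, hJM⟩ := Ideal.exists_le_maximal J hJtop
  obtain ⟨q, hq, -⟩ := Ideal.exists_minimalPrimes_le hJM
  haveI : q.IsPrime := hq.1.1
  let p := q.comap (algebraMap R B)
  haveI : q.LiesOver p := ⟨rfl⟩
  haveI := hred p
  have hflat : FlatCA.FlatAt R q B := by
    show Module.Flat R (LocalizedModule q.primeCompl B)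
    exact FlatInjLib.flat_of_isLocalizedModule q.primeCompl (LocalizedModule.mkLinearMap q.primeCompl B)
  have hmk : ∀ z : B, z ⊗ₜ[R] (1 : R ⧸ Ideal.span {a}) = 0 ↔ z ∈ Ideal.span {c} := fun z => by
    have h1 : z ⊗ₜ[R] (1 : R ⧸ Ideal.span {a}) = 0 ↔ z ∈ Ideal.span {a} • (⊤ : Submodule R B) := by
      rw [← LinearMap.ker_tensorProductMk (R := R) (Q := B) (I := Ideal.span {a}), LinearMap.mem_ker,
        ← (TensorProduct.comm R B (R ⧸ Ideal.span {a})).map_eq_zero_iff]
      rfl
    rw [h1, Submodule.ideal_span_singleton_smul, Submodule.mem_smul_pointwise_iff_exists, Ideal.mem_span_singleton']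
    exact ⟨fun ⟨w, _, hw⟩ => ⟨w, by rw [← hw, Algebra.smul_def, mul_comm]⟩,
      fun ⟨w, hw⟩ => ⟨w, Submodule.mem_top, by rw [← hw, Algebra.smul_def, mul_comm]⟩⟩
  have hann : (Submodule.span B {b ⊗ₜ[R] (1 : R ⧸ Ideal.span {a})}).annihilator = J := Ideal.ext fun s => by
    rw [Submodule.mem_annihilator_span_singleton, TensorProduct.smul_tmul', hmk, smul_eq_mul, hJ]
  obtain ⟨Pf, hPf, hPq⟩ := FlatInjLib.mem_associatedPrimes_of_mem_minimalPrimes p q hflat (R ⧸ Ideal.span {a})
    (b ⊗ₜ[R] (1 : R ⧸ Ideal.span {a})) (hann ▸ hq)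
  haveI : Pf.IsPrime := IsAssociatedPrime.isPrime hPf
  have hsm : Algebra.IsSmoothAt R q := mem_smoothLocus_of_ass p Pf hPf ⟨q, ‹_›⟩ hPq
  obtain ⟨g, hg, hsmg⟩ := Algebra.IsSmoothAt.exists_notMem_smooth R q
  let Bg := Localization.Away g
  haveI : Algebra.Smooth R Bg := hsmg
  have hdis : Disjoint (Submonoid.powers g : Set B) (q : Set B) := by
    rw [Set.disjoint_left]
    rintro _ ⟨k, rfl⟩ hk
    exact hg (‹q.IsPrime›.mem_of_pow_mem k hk)
  let qg := q.map (algebraMap B Bg)
  haveI hqg : qg.IsPrime := IsLocalization.isPrime_of_isPrime_disjoint (Submonoid.powers g) Bg q ‹_› hdis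
  have hqgc : qg.comap (algebraMap B Bg) = q :=
    IsLocalization.comap_map_of_isPrime_disjoint (Submonoid.powers g) Bg ‹_› hdis
  have hnorm : IsDomain (Localization.AtPrime q) ∧ IsIntegrallyClosed (Localization.AtPrime q) := by
    have h1 := Unram17Lib.normal_localization_of_smooth R Bg qg
      ((Unram17Lib.isNormalRing_of_domain R) _)
    rw [← Unram17Lib.normal_congr (IsLocalization.localizationLocalizationAtPrimeIsoLocalization (Submonoid.powers g)
      qg).toRingEquiv] at h1
    have : ∀ (q' : Ideal B) [q'.IsPrime], q' = q →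
        IsDomain (Localization.AtPrime q') ∧ IsIntegrallyClosed (Localization.AtPrime q') →
        IsDomain (Localization.AtPrime q) ∧ IsIntegrallyClosed (Localization.AtPrime q) := by
      rintro q' _ rfl h'
      exact h'
    exact this _ hqgc h1
  let L := Localization.AtPrime q
  obtain ⟨_, _⟩ := hnorm
  let K := FractionRing L
  let ρ : B →+* L := algebraMap B L
  let ι : L →+* K := algebraMap L K
  have hc0 : ρ c ≠ 0 := by
    intro h0
    obtain ⟨t, ht⟩ := (IsLocalization.map_eq_zero_iff q.primeCompl L c).1 h0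
    have h2 : a • (t : B) = 0 := by
      rw [Algebra.smul_def, mul_comm]
      exact ht
    have h3 : (t : B) = 0 :=
      (Module.Flat.isSMulRegular_of_nonZeroDivisors (mem_nonZeroDivisors_of_ne_zero ha)).right_eq_zero_of_smul h2
    exact t.2 (h3 ▸ q.zero_mem)
  have hcK : ι (ρ c) ≠ 0 := fun h0 => hc0 ((map_eq_zero_iff ι (IsFractionRing.injective L K)).1 h0)
  let x : K := ι (ρ b) / ι (ρ c)
  have hint : IsIntegral L x := by
    refine ⟨P.map ρ, hP.map ρ, ?_⟩
    show (P.map ρ).eval₂ ι x = 0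
    rw [eval₂_map]
    have h4 : (P.scaleRoots c).eval₂ (ι.comp ρ) ((ι.comp ρ) b) = 0 := by
      rw [eval₂_at_apply, h, map_zero]
    have h5 : (ι.comp ρ) b = (ι.comp ρ) c * x := by
      show ι (ρ b) = ι (ρ c) * (ι (ρ b) / ι (ρ c))
      rw [mul_div_cancel₀ _ hcK]
    rw [h5, scaleRoots_eval₂_mul] at h4
    exact (mul_eq_zero.1 h4).resolve_left (pow_ne_zero _ hcK)
  obtain ⟨y, hy⟩ := IsIntegrallyClosed.isIntegral_iff.1 hint
  obtain ⟨⟨e, s⟩, rfl⟩ := IsLocalization.mk'_surjective q.primeCompl y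
  have h6 : ρ (s * b) = ρ (e * c) := by
    apply IsFractionRing.injective L K
    show ι (ρ (s * b)) = ι (ρ (e * c))
    have h7 : ι (IsLocalization.mk' L e s) * ι (ρ s) = ι (ρ e) := by
      rw [← map_mul, IsLocalization.mk'_spec]
    rw [show ι (IsLocalization.mk' L e s) = x from hy] at h7
    rw [map_mul, map_mul, map_mul, map_mul, ← h7]
    show ι (ρ s) * ι (ρ b) = ι (ρ b) / ι (ρ c) * ι (ρ s) * ι (ρ c)
    rw [mul_right_comm, div_mul_cancel₀ _ hcK, mul_comm]
  obtain ⟨t, ht⟩ := IsLocalization.exists_of_eq (M := q.primeCompl) h6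
  have h8 : (t : B) * s ∈ J := (hJ _).2 (Ideal.mem_span_singleton'.2 ⟨t * e, by rw [mul_assoc, ← ht, mul_assoc]⟩)
  exact (‹q.IsPrime›.mem_or_mem (hq.1.2 h8)).elim t.2 s.2

end EtaModifLib
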