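import Groth.Agent.EtaModifLib.Alg
import Groth.Agent.FittStratLib.Deg
import Groth.Agent.LocFFLib.Basic
import Mathlib

/-! # Finite modifications which are isomorphisms over the generic point of a normal base -/

set_option autoImplicit false
set_option backward.isDefEq.respectTransparency false
set_option backward.isDefEq.respectTransparency.types false
set_option linter.all false
set_option maxHeartbeats 1000000
universe u

open CategoryTheory CategoryTheory.Limits AlgebraicGeometry TopologicalSpace Opposite Polynomial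
open scoped TensorProduct

namespace EtaModifLib

variable {S : Scheme.{u}}

/-- Sections of a flat scheme over an integral scheme are torsion free. -/
theorem eq_zero_of_mul_eq_zero {X : Scheme.{u}} (h : X ⟶ S) [Flat h] [IsIntegral S] {W : S.Opens} [Nonempty W]
    (hW : IsAffineOpen W) {V : X.Opens} (hV : IsAffineOpen V) (e : V ≤ h ⁻¹ᵁ W) (a : Γ(S, W)) (ha : a ≠ 0)
    (s : Γ(X, V)) (hs : (h.appLE W V e).hom a * s = 0) : s = 0 := by
  letI : Algebra Γ(S, W) Γ(X, V) := (h.appLE W V e).hom.toAlgebra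
  haveI : Module.Flat Γ(S, W) Γ(X, V) := h.flat_appLE hW hV e
  exact (Module.Flat.isSMulRegular_of_nonZeroDivisors (mem_nonZeroDivisors_of_ne_zero ha)).right_eq_zero_of_smul
    (by rw [Algebra.smul_def]; exact hs)

variable [IsIntegral S]

theorem genericPoint_mem (W : S.Opens) [hne : Nonempty W] : genericPoint S ∈ W :=
  (genericPoint_spec S).mem_open_set_iff W.isOpen |>.2 (by
    obtain ⟨⟨w, hw⟩⟩ := hne
    exact ⟨w, trivial, hw⟩)

/-- A localisation inverting the nonzero functions of the base maps to the generic fibre. -/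
theorem exists_lift {X : Scheme.{u}} (h : X ⟶ S) {W : S.Opens} [Nonempty W] (hW : IsAffineOpen W) {V : X.Opens}
    (hV : IsAffineOpen V) (e : V ≤ h ⁻¹ᵁ W) (L : Type u) [CommRing L] (μ : Γ(X, V) →+* L)
    (hμ : ∀ a : Γ(S, W), a ≠ 0 → IsUnit (μ ((h.appLE W V e).hom a))) :
    ∃ l : Spec (CommRingCat.of L) ⟶ pullback h (S.fromSpecStalk (genericPoint S)),
      l ≫ pullback.fst _ _ = Spec.map (CommRingCat.ofHom μ) ≫ hV.fromSpec := by
  have hη := genericPoint_mem W
  letI : Algebra Γ(S, W) S.functionField := (S.germToFunctionField W).hom.toAlgebra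
  haveI : IsFractionRing Γ(S, W) S.functionField := functionField_isFractionRing_of_isAffineOpen _ W hW
  let ν : Γ(S, W) →+* L := μ.comp (h.appLE W V e).hom
  let ξ : S.functionField →+* L := IsLocalization.lift (M := nonZeroDivisors Γ(S, W)) (g := ν)
    fun y => hμ y (nonZeroDivisors.ne_zero y.2)
  have hξ : S.presheaf.germ W (genericPoint S) hη ≫ CommRingCat.ofHom ξ = h.appLE W V e ≫ CommRingCat.ofHom μ :=
    CommRingCat.hom_ext (RingHom.ext fun a => IsLocalization.lift_eq (M := nonZeroDivisors Γ(S, W)) (g := ν) _ a)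
  refine ⟨pullback.lift (Spec.map (CommRingCat.ofHom μ) ≫ hV.fromSpec) (Spec.map (CommRingCat.ofHom ξ)) ?_,
    pullback.lift_fst _ _ _⟩
  rw [Category.assoc, ← hW.fromSpecStalk_eq_fromSpecStalk hη, IsAffineOpen.fromSpecStalk,
    ← IsAffineOpen.SpecMap_appLE_fromSpec h hW hV e, ← Spec.map_comp_assoc, ← Spec.map_comp_assoc]
  exact congrArg (fun t => Spec.map t ≫ hW.fromSpec) hξ.symm

/-- A section vanishing at the generic fibre is killed by a nonzero function of the base. -/
theorem exists_mul_eq_zero {X : Scheme.{u}} (h : X ⟶ S) {W : S.Opens} [Nonempty W] (hW : IsAffineOpen W) {V : X.Opens}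
    (hV : IsAffineOpen V) (e : V ≤ h ⁻¹ᵁ W) (s : Γ(X, V))
    (hs : (pullback.fst h (S.fromSpecStalk (genericPoint S))).app V s = 0) :
    ∃ a : Γ(S, W), a ≠ 0 ∧ (h.appLE W V e).hom a * s = 0 := by
  let M : Submonoid Γ(X, V) := Submonoid.map (h.appLE W V e).hom.toMonoidHom (nonZeroDivisors Γ(S, W))
  let L := Localization M
  let μ : Γ(X, V) →+* L := algebraMap Γ(X, V) L
  obtain ⟨l, hl⟩ := exists_lift h hW hV e L μ fun a ha =>
    IsLocalization.map_units L (⟨_, Submonoid.mem_map.2 ⟨a, mem_nonZeroDivisors_of_ne_zero ha, rfl⟩⟩ : M)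
  have h1 : (l ≫ pullback.fst h (S.fromSpecStalk (genericPoint S))).app V s = 0 := by
    rw [Scheme.Hom.comp_app, CommRingCat.comp_apply, hs, map_zero]
  have h2 : (Spec.map (CommRingCat.ofHom μ) ≫ hV.fromSpec).app V s = 0 := by
    rw [Scheme.Hom.congr_app hl.symm V, CommRingCat.comp_apply, h1, map_zero]
  rw [Scheme.Hom.comp_app, CommRingCat.comp_apply, hV.fromSpec_app_self, CommRingCat.comp_apply] at h2
  have h3 : μ s = 0 := by
    let i := Scheme.ΓSpecIso Γ(X, V)
    let ψ := Spec.map (CommRingCat.ofHom μ)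
    have hres : ∀ (U : (Spec Γ(X, V)).Opens) (hU : U = ⊤) (t : Γ(Spec Γ(X, V), ⊤)),
        ψ.app U ((Spec Γ(X, V)).presheaf.map (eqToHom hU).op t) = 0 → ψ.appTop t = 0 := by
      rintro U rfl t ht
      simpa using ht
    have h4 := hres _ hV.fromSpec_preimage_self _ h2
    have h4' : ((Scheme.ΓSpecIso Γ(X, V)).inv ≫ ψ.appTop) s = 0 := h4
    rw [← Scheme.ΓSpecIso_inv_naturality, CommRingCat.comp_apply] at h4'
    exact (map_eq_zero_iff _ (ConcreteCategory.bijective_of_isIso (Scheme.ΓSpecIso (CommRingCat.of L)).inv).1).1 h4'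
  obtain ⟨⟨_, hm⟩, hms⟩ := (IsLocalization.map_eq_zero_iff M L s).1 h3
  obtain ⟨a, ha, rfl⟩ := Submonoid.mem_map.1 hm
  exact ⟨a, nonZeroDivisors.ne_zero ha, hms⟩

/-- Torsion sections vanish at the generic fibre. -/
theorem app_eq_zero_of_mul_eq_zero {X : Scheme.{u}} (h : X ⟶ S) {W : S.Opens} [Nonempty W] {V : X.Opens}
    (e : V ≤ h ⁻¹ᵁ W) (a : Γ(S, W)) (ha : a ≠ 0) (s : Γ(X, V))
    (hs : (h.appLE W V e).hom a * s = 0) : (pullback.fst h (S.fromSpecStalk (genericPoint S))).app V s = 0 := by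
  let g := pullback.fst h (S.fromSpecStalk (genericPoint S))
  have hηD : genericPoint S ∈ S.basicOpen a := (genericPoint_spec S).mem_open_set_iff (S.basicOpen a).isOpen |>.2 (by
    rcases (S.basicOpen a : Set S).eq_empty_or_nonempty with h0 | ⟨w, hw⟩
    · exact absurd ((basicOpen_eq_bot_iff a).1 (Opens.ext h0)) ha
    · exact ⟨w, trivial, hw⟩)
  have hle : g ⁻¹ᵁ V ≤ g ⁻¹ᵁ (h ⁻¹ᵁ S.basicOpen a) := fun z _ => by
    show (g ≫ h).base z ∈ S.basicOpen a
    rw [show g ≫ h = pullback.snd h (S.fromSpecStalk (genericPoint S)) ≫ S.fromSpecStalk (genericPoint S) from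
      pullback.condition, Scheme.Hom.comp_apply]
    have hr : (S.fromSpecStalk (genericPoint S)).base ((pullback.snd h (S.fromSpecStalk (genericPoint S))).base z) ⤳
        genericPoint S := by
      have := Set.mem_range_self (f := (S.fromSpecStalk (genericPoint S)).base)
        ((pullback.snd h (S.fromSpecStalk (genericPoint S))).base z)
      rwa [Scheme.range_fromSpecStalk] at this
    exact hr.mem_open (S.basicOpen a).isOpen hηD
  have hu : IsUnit (g.app V ((h.appLE W V e).hom a)) := by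
    have h1 : h.appLE W V e ≫ g.app V = S.presheaf.map (homOfLE (S.basicOpen_le a)).op ≫
        (g ≫ h).appLE (S.basicOpen a) (g ⁻¹ᵁ V) hle := by
      rw [Scheme.Hom.map_appLE, Scheme.Hom.app_eq_appLE, Scheme.Hom.appLE_comp_appLE]
    rw [← CommRingCat.comp_apply, h1, CommRingCat.comp_apply]
    exact IsUnit.map _ (RingedSpace.isUnit_res_basicOpen _ a)
  have h2 := congrArg (g.app V) hs
  rw [map_mul, map_zero] at h2
  exact hu.mul_right_eq_zero.1 h2

section Modif

variable {X X' : Scheme.{u}} (φ : X ⟶ S) [Flat φ] (f : X' ⟶ X) [IsAffineHom f] (U : X.Opens)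
  [hfU : IsIso (f ∣_ U)]

include hfU in
theorem flat_over_open : Flat ((f ⁻¹ᵁ U).ι ≫ f ≫ φ) := by
  rw [← morphismRestrict_ι_assoc]
  infer_instance

include hfU in
/-- Schematic density of the open of isomorphy makes the sections torsion free. -/
theorem eq_zero_of_torsion [CompactSpace S] [QuasiSeparatedSpace S]
    (hU' : IsSchemeTheoreticallyDominant (f ⁻¹ᵁ U).ι) {W : S.Opens} [Nonempty W]
    {V : X'.Opens} (hV : IsAffineOpen V) (e : V ≤ (f ≫ φ) ⁻¹ᵁ W) (a : Γ(S, W)) (ha : a ≠ 0)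
    (s : Γ(X', V)) (hs : ((f ≫ φ).appLE W V e).hom a * s = 0) : s = 0 := by
  let g := pullback.fst (f ≫ φ) (S.fromSpecStalk (genericPoint S))
  haveI : QuasiCompact (S.fromSpecStalk (genericPoint S)) := inferInstance
  haveI : QuasiCompact g := inferInstance
  haveI := flat_over_open φ f U
  have hle : g.ker ≤ (f ⁻¹ᵁ U).ι.ker := by
    refine Scheme.IdealSheafData.le_ofIdeals_iff.2 fun O t ht => ?_
    rw [g.ker_apply, RingHom.mem_ker] at ht
    rw [RingHom.mem_ker]
    let j := (f ⁻¹ᵁ U).ι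
    apply TopCat.Sheaf.eq_of_locally_eq' (Scheme.sheaf ↑(f ⁻¹ᵁ U))
      (fun O' : {O' : ((f ⁻¹ᵁ U : X'.Opens) : Scheme.{u}).affineOpens //
        O'.1 ≤ j ⁻¹ᵁ O.1 ∧ ∃ W' : S.affineOpens, O'.1 ≤ (j ≫ f ≫ φ) ⁻¹ᵁ W'.1} => O'.1.1) (j ⁻¹ᵁ O.1)
      (fun O' => homOfLE O'.2.1)
    · intro z hz
      obtain ⟨W', hW', hzW', -⟩ := exists_isAffineOpen_mem_and_subset (x := (j ≫ f ≫ φ).base z) (U := ⊤) trivial
      obtain ⟨O', hO', hzO', hle⟩ := exists_isAffineOpen_mem_and_subset (x := z)
        (U := j ⁻¹ᵁ O.1 ⊓ (j ≫ f ≫ φ) ⁻¹ᵁ W') ⟨hz, hzW'⟩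
      exact Opens.mem_iSup.2 ⟨⟨⟨O', hO'⟩, hle.trans inf_le_left, ⟨W', hW'⟩, hle.trans inf_le_right⟩, hzO'⟩
    rintro ⟨⟨O', hO'⟩, hO'O, ⟨W', hW'⟩, hO'W⟩
    show ((f ⁻¹ᵁ U : X'.Opens) : Scheme.{u}).presheaf.map (homOfLE hO'O).op (j.app O.1 t) =
      ((f ⁻¹ᵁ U : X'.Opens) : Scheme.{u}).presheaf.map (homOfLE hO'O).op 0
    rw [map_zero]
    rcases isEmpty_or_nonempty W' with hemp | hne
    · have : O' = ⊥ := by
        rw [eq_bot_iff]
        intro z hz
        exact hemp.elim ⟨_, hO'W hz⟩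
      subst this
      exact Subsingleton.elim _ _
    let O'' := j ''ᵁ O'
    have hO'' : IsAffineOpen O'' := hO'.image_of_isOpenImmersion j
    have hle' : O'' ≤ O.1 := by
      rintro _ ⟨z, hz, rfl⟩
      exact hO'O hz
    have e'' : O'' ≤ (f ≫ φ) ⁻¹ᵁ W' := by
      rintro _ ⟨z, hz, rfl⟩
      exact hO'W hz
    obtain ⟨b, hb, hbt⟩ := exists_mul_eq_zero (f ≫ φ) hW' hO'' e'' (X'.presheaf.map (homOfLE hle').op t) (by
      rw [← CommRingCat.comp_apply, Scheme.Hom.naturality, CommRingCat.comp_apply, ht, map_zero])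
    have hj : O' ≤ j ⁻¹ᵁ O'' := fun z hz => ⟨z, hz, rfl⟩
    have h5 := congrArg (j.appLE O'' O' hj) hbt
    rw [map_mul, map_zero, ← CommRingCat.comp_apply, ← CommRingCat.comp_apply, Scheme.Hom.appLE_comp_appLE,
      Scheme.Hom.map_appLE] at h5
    have h6 := eq_zero_of_mul_eq_zero (j ≫ f ≫ φ) hW' hO' hO'W b hb _ h5
    rw [← CommRingCat.comp_apply, Scheme.Hom.app_eq_appLE, Scheme.Hom.appLE_map]
    exact h6
  rw [hU'.ker_eq_bot, le_bot_iff] at hle
  have h7 : s ∈ g.ker.ideal ⟨V, hV⟩ := by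
    rw [g.ker_apply, RingHom.mem_ker]
    exact app_eq_zero_of_mul_eq_zero (f ≫ φ) e a ha s hs
  rw [hle] at h7
  simpa using h7

/-- A function of the generic fibre comes from the target, up to a denominator. -/
theorem exists_eq_of_generic (hη : IsIso (pullback.snd f (pullback.fst φ (S.fromSpecStalk (genericPoint S)))))
    {W : S.Opens} [Nonempty W] (hW : IsAffineOpen W) {V : X.Opens} (hV : IsAffineOpen V) (e : V ≤ φ ⁻¹ᵁ W) :
    (∀ x : Γ(X', f ⁻¹ᵁ V), ∃ a : Γ(S, W), a ≠ 0 ∧ ∃ b : Γ(X, V),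
      (f.app V).hom ((φ.appLE W V e).hom a) * x = (f.app V).hom b) ∧
    ∀ k : Γ(X, V), (f.app V).hom k = 0 → ∃ a : Γ(S, W), a ≠ 0 ∧ (φ.appLE W V e).hom a * k = 0 := by
  let B := Γ(X, V)
  let B' := Γ(X', f ⁻¹ᵁ V)
  letI : Algebra B B' := (f.app V).hom.toAlgebra
  let M : Submonoid B := Submonoid.map (φ.appLE W V e).hom.toMonoidHom (nonZeroDivisors Γ(S, W))
  have hM : ∀ {c}, c ∈ M → ∃ a : Γ(S, W), a ≠ 0 ∧ (φ.appLE W V e).hom a = c := fun {c} hc => by
    obtain ⟨a, ha, rfl⟩ := Submonoid.mem_map.1 hc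
    exact ⟨a, nonZeroDivisors.ne_zero ha, rfl⟩
  let L := Localization M
  obtain ⟨l, hl⟩ := exists_lift φ hW hV e L (algebraMap B L) fun a ha =>
    IsLocalization.map_units L (⟨_, Submonoid.mem_map.2 ⟨a, mem_nonZeroDivisors_of_ne_zero ha, rfl⟩⟩ : M)
  let t := Spec.map (CommRingCat.ofHom (algebraMap B L)) ≫ hV.fromSpec
  haveI hiso : IsIso (pullback.snd f t) := by
    let u := pullback.fst φ (S.fromSpecStalk (genericPoint S))
    have hsq := (IsPullback.of_hasPullback f t)
    have hl' : l ≫ u = t := hl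
    let k : pullback f t ⟶ pullback f u := pullback.lift (pullback.fst f t) (pullback.snd f t ≫ l)
      (by rw [pullback.condition, Category.assoc, hl'])
    have hbot : IsPullback k (pullback.snd f t) (pullback.snd f u) l :=
      IsPullback.of_right (by rw [pullback.lift_fst, hl']; exact hsq) (pullback.lift_snd _ _ _)
        (IsPullback.of_hasPullback f u)
    exact MorphismProperty.of_isPullback (P := MorphismProperty.isomorphisms Scheme.{u}) hbot hη
  let N := Algebra.algebraMapSubmonoid B' M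
  let L' := Localization N
  haveI : Algebra.IsPushout B B' L L' := Algebra.isPushout_of_isLocalization M L B' L'
  have hpo : IsPushout (CommRingCat.ofHom (algebraMap B B')) (CommRingCat.ofHom (algebraMap B L))
      (CommRingCat.ofHom (algebraMap B' L')) (CommRingCat.ofHom (algebraMap L L')) :=
    CommRingCat.isPushout_of_isPushout B B' L L'
  have hpb := IsPullback.paste_horiz (isPullback_SpecMap_of_isPushout _ _ _ _ hpo) (FittStratLib.isPullback_SpecMap f hV)
  haveI : IsIso (Spec.map (CommRingCat.ofHom (algebraMap L L'))) := by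
    rw [← hpb.isoPullback_hom_snd]
    infer_instance
  have hbij : Function.Bijective (algebraMap L L') := by
    first
      | exact isIso_SpecMap_iff.1 ‹_›
      | exact (ConcreteCategory.isIso_iff_bijective _).1 (isIso_SpecMap_iff.1 ‹_›)
  refine ⟨fun x => ?_, fun k hk => ?_⟩
  · obtain ⟨y, hy⟩ := hbij.2 (algebraMap B' L' x)
    obtain ⟨⟨b, m⟩, rfl⟩ := IsLocalization.mk'_surjective M y
    have h1 : algebraMap B' L' (algebraMap B B' m * x) = algebraMap B' L' (algebraMap B B' b) := by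
      rw [map_mul, ← hy, ← IsScalarTower.algebraMap_apply, IsScalarTower.algebraMap_apply B L L', ← map_mul,
        IsLocalization.mk'_spec', ← IsScalarTower.algebraMap_apply, IsScalarTower.algebraMap_apply B B' L']
    obtain ⟨⟨_, c, hc, rfl⟩, h2⟩ := IsLocalization.exists_of_eq (M := N) h1
    obtain ⟨a₁, ha₁, hca⟩ := hM hc
    obtain ⟨a₂, ha₂, hma⟩ := hM m.2
    refine ⟨a₁ * a₂, mul_ne_zero ha₁ ha₂, c * b, ?_⟩
    show (f.app V).hom ((φ.appLE W V e).hom (a₁ * a₂)) * x = algebraMap B B' (c * b)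
    rw [map_mul, hca, hma, map_mul, map_mul, mul_assoc]
    exact h2
  · have h1 : algebraMap B L k = 0 := hbij.1 (by
      rw [map_zero, ← IsScalarTower.algebraMap_apply, IsScalarTower.algebraMap_apply B B' L']
      rw [show algebraMap B B' k = 0 from hk, map_zero])
    obtain ⟨⟨c, hc⟩, h2⟩ := (IsLocalization.map_eq_zero_iff M L k).1 h1
    obtain ⟨a, ha, rfl⟩ := hM hc
    exact ⟨a, ha, h2⟩

end Modif

/-- Fibre rings of a geometrically reduced morphism are geometrically reduced. -/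
theorem isGeometricallyReduced_fiber {X : Scheme.{u}} (φ : X ⟶ S)
    (hred : ∀ (K : Type u) [Field K] (k : Spec (CommRingCat.of K) ⟶ S), IsReduced (pullback φ k))
    {W : S.Opens} (hW : IsAffineOpen W) {V : X.Opens} (hV : IsAffineOpen V) (e : V ≤ φ ⁻¹ᵁ W)
    [Algebra Γ(S, W) Γ(X, V)] (halg : algebraMap Γ(S, W) Γ(X, V) = (φ.appLE W V e).hom)
    (p : Ideal Γ(S, W)) [p.IsPrime] : Algebra.IsGeometricallyReduced p.ResidueField (p.Fiber Γ(X, V)) := by
  rw [Algebra.isGeometricallyReduced_field_iff]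
  let R := Γ(S, W)
  let B := Γ(X, V)
  let Ω := AlgebraicClosure p.ResidueField
  suffices h : _root_.IsReduced (B ⊗[R] Ω) by
    exact isReduced_of_injective
      ((Algebra.TensorProduct.cancelBaseChange R p.ResidueField p.ResidueField Ω B).restrictScalars R |>.trans
        (Algebra.TensorProduct.comm R Ω B)) (AlgEquiv.injective _)
  let α : Spec (CommRingCat.of B) ⟶ Spec (CommRingCat.of R) := Spec.map (CommRingCat.ofHom (algebraMap R B))
  let β : Spec (CommRingCat.of Ω) ⟶ Spec (CommRingCat.of R) := Spec.map (CommRingCat.ofHom (algebraMap R Ω))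
  let k := β ≫ hW.fromSpec
  have hα : hV.fromSpec ≫ φ = α ≫ hW.fromSpec := by
    rw [← IsAffineOpen.SpecMap_appLE_fromSpec φ hW hV e]
    show Spec.map (φ.appLE W V e) ≫ _ = Spec.map (CommRingCat.ofHom (algebraMap R B)) ≫ _
    rw [halg]
    rfl
  have h1 : IsPullback (pullback.fst α β) (pullback.snd α β) (hV.fromSpec ≫ φ) k := by
    rw [hα]
    exact
      ⟨⟨by rw [← Category.assoc, pullback.condition, Category.assoc]⟩,
        ⟨PullbackCone.IsLimit.mk _ (fun s => pullback.lift s.fst s.snd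
          ((cancel_mono hW.fromSpec).1 (by rw [Category.assoc, Category.assoc]; exact s.condition)))
          (fun s => pullback.lift_fst _ _ _) (fun s => pullback.lift_snd _ _ _)
          (fun s m hm₁ hm₂ => pullback.hom_ext (by rw [hm₁, pullback.lift_fst]) (by rw [hm₂, pullback.lift_snd]))⟩⟩
  let j : pullback α β ⟶ pullback φ k := pullback.lift (pullback.fst α β ≫ hV.fromSpec) (pullback.snd α β)
    (by rw [Category.assoc]; exact h1.w)
  have hj : IsPullback (pullback.fst α β) j hV.fromSpec (pullback.fst φ k) :=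
    IsPullback.of_bot (by rw [pullback.lift_snd]; exact h1) (pullback.lift_fst _ _ _).symm
      (IsPullback.of_hasPullback φ k)
  haveI : IsOpenImmersion j := MorphismProperty.of_isPullback (P := @IsOpenImmersion) hj inferInstance
  haveI : IsReduced (pullback φ k) := hred Ω k
  haveI : IsReduced (pullback α β) := isReduced_of_isOpenImmersion j
  haveI : IsReduced (Spec (CommRingCat.of (B ⊗[R] Ω))) := isReduced_of_isOpenImmersion (pullbackSpecIso R B Ω).inv
  exact (affine_isReduced_iff _).1 ‹_›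

end EtaModifLib
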